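import Groth.Agent.Lib.IdealMul.DevissageExt
import Groth.Agent.Lib.EffCartier.Comap
import Groth.Agent.Lib.Cyc26.PushFin
import Groth.Agent.Lib.CohGab13.Basic

/-!
# Morphisms out of finite direct images, isomorphic at a generic point
-/

set_option autoImplicit false
set_option linter.style.haveILetI false
set_option linter.unusedSectionVars false
set_option backward.isDefEq.respectTransparency false

universe u

open CategoryTheory CategoryTheory.Limits AlgebraicGeometry Opposite TopologicalSpace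

namespace Groth.Agent.GenPush19

open IdealMulL CohFound

variable {Y : Scheme.{u}}

theorem stL_finset_sum {M N : Y.Modules} {ι : Type*} (s : Finset ι) (φ : ι → (M ⟶ N)) (y : Y)
    (a : M.presheaf.stalk y) : stL (∑ i ∈ s, φ i) y a = ∑ i ∈ s, stL (φ i) y a := by
  classical
  induction s using Finset.induction_on with
  | empty => rw [Finset.sum_empty, Finset.sum_empty, stL_zero]
  | @insert b s hb ih => rw [Finset.sum_insert hb, Finset.sum_insert hb, stL_add, ih]

/-- Stalks of an `n`-fold biproduct. -/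
noncomputable def stalkBiprod {Q T : Y.Modules} {ι : Type*} [Fintype ι] [DecidableEq ι]
    (inj : ι → (Q ⟶ T)) (prj : ι → (T ⟶ Q))
    (h₁ : ∀ i, inj i ≫ prj i = 𝟙 Q) (h₂ : ∀ i j, i ≠ j → inj i ≫ prj j = 0)
    (h₃ : ∑ i, prj i ≫ inj i = 𝟙 T) (y : Y) :
    T.presheaf.stalk y ≃ₗ[Y.presheaf.stalk y] (ι → Q.presheaf.stalk y) where
  toFun a i := stL (prj i) y a
  map_add' a b := by funext i; exact map_add _ a b
  map_smul' c a := by funext i; exact map_smul _ c a
  invFun v := ∑ i, stL (inj i) y (v i)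
  left_inv a := by
    have h := stL_finset_sum Finset.univ (fun i => prj i ≫ inj i) y a
    rw [h₃, stL_id] at h
    simp only [stL_comp] at h
    exact h.symm
  right_inv v := by
    funext j
    show stL (prj j) y (∑ i, stL (inj i) y (v i)) = v j
    rw [map_sum, Finset.sum_eq_single j]
    · rw [← stL_comp, h₁, stL_id]
    · intro i _ hij
      rw [← stL_comp, h₂ i j hij, stL_zero]
    · exact fun h => absurd (Finset.mem_univ j) h

theorem finrank_stalk_biprod {Q T : Y.Modules} {ι : Type*} [Fintype ι] [DecidableEq ι]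
    (inj : ι → (Q ⟶ T)) (prj : ι → (T ⟶ Q))
    (h₁ : ∀ i, inj i ≫ prj i = 𝟙 Q) (h₂ : ∀ i j, i ≠ j → inj i ≫ prj j = 0)
    (h₃ : ∑ i, prj i ≫ inj i = 𝟙 T) (y : Y) (hy : IsField (Y.presheaf.stalk y))
    [Module.Finite (Y.presheaf.stalk y) (Q.presheaf.stalk y)] :
    Module.finrank (Y.presheaf.stalk y) (T.presheaf.stalk y) =
      Fintype.card ι * Module.finrank (Y.presheaf.stalk y) (Q.presheaf.stalk y) := by
  letI := hy.toField
  rw [(stalkBiprod inj prj h₁ h₂ h₃ y).finrank_eq, Module.finrank_pi_fintype, Finset.sum_const,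
    Finset.card_univ, smul_eq_mul]

/-- A morphism bijective on stalks in a neighbourhood of the fibre is bijective after pushforward. -/
theorem bijective_stL_push {X : Scheme.{u}} (f : X ⟶ Y) {M N : X.Modules} (φ : M ⟶ N) (U : Y.Opens)
    (h : ∀ x, f x ∈ U → Function.Bijective (stL φ x)) {y : Y} (hy : y ∈ U) :
    Function.Bijective (stL ((Scheme.Modules.pushforward f).map φ) y) := by
  haveI : IsIso ((Scheme.Modules.restrictFunctor (f ⁻¹ᵁ U).ι).map φ) :=
    isIso_restrict_map φ _ fun x hx => h x hx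
  have hb : ∀ V : Y.Opens, V ≤ U →
      Function.Bijective (((Scheme.Modules.pushforward f).map φ).app V) := by
    intro V hV
    have e : (f ⁻¹ᵁ U).ι ''ᵁ ((f ⁻¹ᵁ U).ι ⁻¹ᵁ (f ⁻¹ᵁ V)) = f ⁻¹ᵁ V := by
      rw [Scheme.Hom.image_preimage_eq_opensRange_inf, Scheme.Opens.opensRange_ι]
      exact inf_eq_right.2 fun z hz => hV hz
    have h1 : Function.Bijective (φ.app ((f ⁻¹ᵁ U).ι ''ᵁ ((f ⁻¹ᵁ U).ι ⁻¹ᵁ (f ⁻¹ᵁ V)))) :=
      (ConcreteCategory.isIso_iff_bijective _).1 (inferInstance :
        IsIso (((Scheme.Modules.restrictFunctor (f ⁻¹ᵁ U).ι).map φ).app ((f ⁻¹ᵁ U).ι ⁻¹ᵁ (f ⁻¹ᵁ V))))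
    rw [e] at h1
    exact h1
  refine ⟨(injective_iff_map_eq_zero _).2 fun a ha => ?_, fun b => ?_⟩
  · obtain ⟨V, hV, s, rfl⟩ := TopCat.Presheaf.exists_germ_eq _ a
    rw [stL_eq] at ha
    erw [M1.germ_naturality] at ha
    obtain ⟨W, hW, i₁, i₂, e⟩ := TopCat.Presheaf.germ_eq _ y hV hV _ 0 (ha.trans (map_zero _).symm)
    rw [map_zero] at e
    let W' : Y.Opens := W ⊓ U
    have hW' : y ∈ W' := ⟨hW, hy⟩
    rw [← M1.germ_mres _ (inf_le_left.trans i₁.le : W' ≤ V) hW']
    have h0 : ((Scheme.Modules.pushforward f).map φ).app W'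
        (M1.mres _ (inf_le_left.trans i₁.le : W' ≤ V) s) = 0 := by
      rw [M1.app_mres, ← M1.mres_mres _ i₁.le (inf_le_left : W' ≤ W)]
      refine (congrArg (M1.mres _ _) e).trans ?_
      exact map_zero _
    rw [(hb W' inf_le_right).1 (h0.trans (map_zero _).symm), map_zero]
  · obtain ⟨V, hV, s, rfl⟩ := TopCat.Presheaf.exists_germ_eq _ b
    obtain ⟨t, ht⟩ := (hb (V ⊓ U) inf_le_right).2 (M1.mres _ inf_le_left s)
    refine ⟨((Scheme.Modules.pushforward f).obj M).presheaf.germ (V ⊓ U) y ⟨hV, hy⟩ t, ?_⟩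
    rw [stL_eq]
    erw [M1.germ_naturality]
    rw [ht, M1.germ_mres]

/-- If `f_* M₀` and `T` have stalks of the same dimension at a point `y` whose local ring is a field,
some `f_* G`, with `G ⊆ M₀` coherent, maps to `T` bijectively on stalks at `y`. -/
theorem exists_push_hom {X : Scheme.{u}} [IsNoetherian X] [IsNoetherian Y] (f : X ⟶ Y) [IsFinite f]
    {M : X.Modules} (hM : Coh.IsCoh M) {T : Y.Modules} (hT : Coh.IsCoh T) (y : Y)
    (hy : IsField (Y.presheaf.stalk y))
    (hdim : Module.finrank (Y.presheaf.stalk y) (((Scheme.Modules.pushforward f).obj M).presheaf.stalk y) =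
      Module.finrank (Y.presheaf.stalk y) (T.presheaf.stalk y)) :
    ∃ (G : X.Modules) (β : (Scheme.Modules.pushforward f).obj G ⟶ T),
      Coh.IsCoh G ∧ Function.Bijective (stL β y) := by
  classical
  haveI := hM.1
  let P := Scheme.Modules.pushforward f
  let A := P.obj M
  have hA : Coh.IsCoh A := Cyc26.isCoh_push_finite f hM
  haveI := hA.1
  have hmax : IsLocalRing.maximalIdeal (Y.presheaf.stalk y) = ⊥ :=
    IsLocalRing.isField_iff_maximalIdeal_eq.1 hy
  obtain ⟨U, hyU, ⟨φ⟩⟩ : ∃ U : Y.Opens, y ∈ U ∧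
      Nonempty ((Scheme.Modules.restrictFunctor U.ι).obj A ≅ (Scheme.Modules.restrictFunctor U.ι).obj T) := by
    letI := hy.toField
    haveI hfA : Module.Finite (Y.presheaf.stalk y) (A.presheaf.stalk y) := M1.finite_stalk hA.1 hA.2 y
    haveI hfT : Module.Finite (Y.presheaf.stalk y) (T.presheaf.stalk y) := M1.finite_stalk hT.1 hT.2 y
    let b := Module.finBasisOfFinrankEq (Y.presheaf.stalk y) (A.presheaf.stalk y) hdim
    let b' := Module.finBasis (Y.presheaf.stalk y) (T.presheaf.stalk y)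
    refine exists_restrict_iso (ξ := y) hA hT (fun i => b i) (fun i => b' i) ?_ ?_
      (fun a => ⟨fun i => b.repr a i, b.sum_repr a⟩) (fun a => ⟨fun i => b'.repr a i, b'.sum_repr a⟩) ?_ ?_
    · intro c hc a
      rw [hmax, Ideal.mem_bot] at hc
      rw [hc, zero_smul]
    · intro c hc a
      rw [hmax, Ideal.mem_bot] at hc
      rw [hc, zero_smul]
    · intro c hc j
      rw [Fintype.linearIndependent_iff.1 b.linearIndependent c hc j]
      exact zero_mem _
    · intro c hc j
      rw [Fintype.linearIndependent_iff.1 b'.linearIndependent c hc j]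
      exact zero_mem _
  let R := Scheme.Modules.restrictFunctor U.ι
  let J₀ : Y.IdealSheafData :=
    Scheme.IdealSheafData.vanishingIdeal ⟨(U : Set Y)ᶜ, U.isOpen.isClosed_compl⟩
  have hJ₀ : (U : Set Y) = (J₀.support : Set Y)ᶜ := by
    rw [Scheme.IdealSheafData.coe_support_vanishingIdeal]
    exact (compl_compl _).symm
  obtain ⟨n, ψ, hψ⟩ := exists_extend hT.1 hA J₀ hJ₀ φ.hom
  let J := J₀ ^ n
  have hsupp : ∀ x ∈ U, x ∉ (J.support : Set Y) := fun x hx hs => by
    have hx' : x ∉ (J₀.support : Set Y) := by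
      have : x ∈ (U : Set Y) := hx
      rwa [hJ₀] at this
    rcases n with _ | n
    · simp [J, pow_zero] at hs
    · rw [show J = J₀ ^ (n + 1) from rfl, Scheme.IdealSheafData.support_pow_succ] at hs
      exact hx' hs
  let J' := J.comap f
  have hG₀ : Coh.IsQCoh ((Dual3.idealMul J').obj M) := isQCoh_idl M J' hM.1
  have hG : Coh.IsCoh ((Dual3.idealMul J').obj M) :=
    M1.isCoh_of_mono (Dual3.idealMulι J' M) hM hG₀
  haveI : Coh.IsQCoh (P.obj ((Dual3.idealMul J').obj M)) := M1.isQCoh_push f hG₀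
  let ιG := P.map (Dual3.idealMulι J' M)
  obtain ⟨c, hc⟩ : ∃ c : P.obj ((Dual3.idealMul J').obj M) ⟶ (Dual3.idealMul J).obj A,
      c ≫ Dual3.idealMulι J A = ιG := exists_lift_affine ιG (idl A J) (fun W : Y.affineOpens => W)
    (fun x => by
      obtain ⟨W, hW, hxW, -⟩ := exists_isAffineOpen_mem_and_subset (show x ∈ (⊤ : Y.Opens) from trivial)
      exact ⟨⟨W, hW⟩, hxW⟩)
    (fun W t => by
      rw [mem_idl]
      let V : X.affineOpens := ⟨f ⁻¹ᵁ W.1, W.2.preimage f⟩
      have ht := (mem_idl M J' V ((Dual3.idealMulι J' M).app V.1 t)).1 ⟨t, rfl⟩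
      rw [EffCartier.comap_ideal J f W V le_rfl, ← Scheme.Hom.app_eq_appLE] at ht
      have key : ∀ z : Γ(M, V.1),
          z ∈ ((J.ideal W).map (f.app W.1).hom) • (⊤ : Submodule Γ(X, V.1) Γ(M, V.1)) →
          (show Γ(A, W.1) from z) ∈ J.ideal W • (⊤ : Submodule Γ(Y, W.1) Γ(A, W.1)) := by
        intro z hz
        refine Submodule.smul_induction_on hz (fun a ha m _ => ?_) (fun a b ha hb => add_mem ha hb)
        have : ∀ m : Γ(M, V.1), (show Γ(A, W.1) from a • m) ∈
            J.ideal W • (⊤ : Submodule Γ(Y, W.1) Γ(A, W.1)) := by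
          refine Submodule.span_induction (p := fun a _ => ∀ m : Γ(M, V.1), (show Γ(A, W.1) from a • m) ∈
            J.ideal W • (⊤ : Submodule Γ(Y, W.1) Γ(A, W.1))) ?_ ?_ ?_ ?_ ha
          · rintro _ ⟨d, hd, rfl⟩ m
            exact Submodule.smul_mem_smul (r := d) (n := (show Γ(A, W.1) from m)) hd Submodule.mem_top
          · intro m
            rw [zero_smul]
            exact zero_mem _
          · intro a b _ _ ha hb m
            rw [add_smul]
            exact add_mem (ha m) (hb m)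
          · intro r a _ ha m
            rw [smul_eq_mul, mul_comm, mul_smul]
            exact ha _
        exact this m
      exact key _ ht)
  refine ⟨_, c ≫ ψ, hG, ?_⟩
  have hι : Function.Bijective (stL (Dual3.idealMulι J A) y) := bijective_stL_idl _ (hsupp y hyU)
  have hιG : Function.Bijective (stL ιG y) := bijective_stL_push f _ U (fun x hx => by
    refine bijective_stL_idl _ ?_
    rw [Scheme.IdealSheafData.support_comap]
    exact hsupp _ hx) hyU
  have hcb : Function.Bijective (stL c y) := by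
    have e : ⇑(stL ιG y) = ⇑(stL (Dual3.idealMulι J A) y) ∘ ⇑(stL c y) := by
      funext a
      rw [Function.comp_apply, ← stL_comp]
      exact congrArg (fun g => stL g y a) hc.symm
    rw [e] at hιG
    exact (Function.Bijective.of_comp_iff' hι _).1 hιG
  have hψb : Function.Bijective (stL ψ y) := by
    haveI : IsIso (R.map (Dual3.idealMulι J A)) :=
      isIso_restrict_map _ U fun x hx => bijective_stL_idl _ (hsupp x hx)
    haveI : IsIso (R.map ψ) := by rw [hψ]; infer_instance
    let z : (U : Scheme.{u}) := ⟨y, hyU⟩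
    have h2 : IsIso ((Scheme.Modules.restrictFunctor U.ι ⋙ Scheme.Modules.toPresheaf _ ⋙
        TopCat.Presheaf.stalkFunctor _ z).map ψ) := by
      change IsIso ((Scheme.Modules.toPresheaf _ ⋙ TopCat.Presheaf.stalkFunctor _ z).map (R.map ψ))
      infer_instance
    exact (ConcreteCategory.isIso_iff_bijective _).1
      ((NatIso.isIso_map_iff (Scheme.Modules.restrictStalkNatIso U.ι z) ψ).1 h2)
  have e : ⇑(stL (c ≫ ψ) y) = ⇑(stL ψ y) ∘ ⇑(stL c y) := funext fun a => stL_comp _ _ _ a
  rw [e]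
  exact hψb.comp hcb

end Groth.Agent.GenPush19
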